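import Groth.Agent.RelTildeX.Glue
import Groth.Prelude.Def_RelProj2

/-!
The morphism of twisting sheaves induced by a homomorphism of graded algebras on relative `Proj`.
-/

noncomputable section

set_option maxHeartbeats 600000
set_option autoImplicit false
set_option backward.isDefEq.respectTransparency false
set_option backward.isDefEq.respectTransparency.types false

universe u

open CategoryTheory CategoryTheory.Limits AlgebraicGeometry TopologicalSpace Opposite Groth.Agent.QCoh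
open scoped HomogeneousIdeal

namespace Groth.Agent.RelTwistMap16

section Graded

variable {A σ : Type u} [CommRing A] [SetLike σ A] [AddSubgroupClass σ A] {𝒜 : ℕ → σ} [GradedRing 𝒜]
  {B σ' : Type u} [CommRing B] [SetLike σ' B] [AddSubgroupClass σ' B] {ℬ : ℕ → σ'} [GradedRing ℬ]
  {A' σ'' : Type u} [CommRing A'] [SetLike σ'' A'] [AddSubgroupClass σ'' A'] {𝒜' : ℕ → σ''} [GradedRing 𝒜']
  {C τ : Type u} [CommRing C] [SetLike τ C] [AddSubgroupClass τ C] {𝒞 : ℕ → τ} [GradedRing 𝒞]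

theorem ext_val {n : ℤ} {U : (Proj 𝒜).Opens} {s t : Γ(GrTwist.twist 𝒜 n, U)}
    (h : ∀ x : U, GrTwist.val s x = GrTwist.val t x) : s = t :=
  Subtype.ext (funext fun x => Subtype.ext (h x))

/-- Two factorizations of a homomorphism act equally on the values of a family of fractions. -/
theorem locMap_square (ψ₁ : 𝒜 →+*ᵍ ℬ) (h₁ : ℬ₊ ≤ (𝒜₊).map ψ₁) (ρ₁ : ℬ →+*ᵍ 𝒞) (k₁ : 𝒞₊ ≤ (ℬ₊).map ρ₁)
    (ψ₂ : 𝒜 →+*ᵍ 𝒜') (h₂ : 𝒜'₊ ≤ (𝒜₊).map ψ₂) (ρ₂ : 𝒜' →+*ᵍ 𝒞) (k₂ : 𝒞₊ ≤ (𝒜'₊).map ρ₂)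
    (heq : ∀ a, ρ₁ (ψ₁ a) = ρ₂ (ψ₂ a)) (y : ProjectiveSpectrum 𝒞) (V : (Proj 𝒜).Opens)
    (F : ∀ x : V, GrTwist.Loc 𝒜 x.1) (m₁ : ProjectiveSpectrum.comap ψ₁ h₁ (ProjectiveSpectrum.comap ρ₁ k₁ y) ∈ V)
    (m₂ : ProjectiveSpectrum.comap ψ₂ h₂ (ProjectiveSpectrum.comap ρ₂ k₂ y) ∈ V) :
    GrTwist.locMap ρ₁ k₁ y (GrTwist.locMap ψ₁ h₁ _ (F ⟨_, m₁⟩)) =
      GrTwist.locMap ρ₂ k₂ y (GrTwist.locMap ψ₂ h₂ _ (F ⟨_, m₂⟩)) := by
  let comp : A →+* C := ρ₁.toRingHom.comp ψ₁.toRingHom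
  have key : ∀ (x₁ x₂ : ProjectiveSpectrum 𝒜) (e : x₁ = x₂) (n₁ : x₁ ∈ V) (n₂ : x₂ ∈ V)
      (c₁ : x₁.asHomogeneousIdeal.toIdeal = y.asHomogeneousIdeal.toIdeal.comap comp)
      (c₂ : x₂.asHomogeneousIdeal.toIdeal = y.asHomogeneousIdeal.toIdeal.comap comp),
      Localization.localRingHom _ _ comp c₁ (F ⟨x₁, n₁⟩) = Localization.localRingHom _ _ comp c₂ (F ⟨x₂, n₂⟩) := by
    intro x₁ x₂ e n₁ n₂ c₁ c₂
    subst e
    rfl
  have c₁ : (ProjectiveSpectrum.comap ψ₁ h₁ (ProjectiveSpectrum.comap ρ₁ k₁ y)).asHomogeneousIdeal.toIdeal =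
      y.asHomogeneousIdeal.toIdeal.comap comp := Ideal.ext fun a => Iff.rfl
  have c₂ : (ProjectiveSpectrum.comap ψ₂ h₂ (ProjectiveSpectrum.comap ρ₂ k₂ y)).asHomogeneousIdeal.toIdeal =
      y.asHomogeneousIdeal.toIdeal.comap comp := Ideal.ext fun a => by
    show ρ₂ (ψ₂ a) ∈ y.asHomogeneousIdeal.toIdeal ↔ ρ₁ (ψ₁ a) ∈ y.asHomogeneousIdeal.toIdeal
    rw [heq]
  have e₁ : ∀ q, GrTwist.locMap ρ₁ k₁ y (GrTwist.locMap ψ₁ h₁ _ q) = Localization.localRingHom _ _ comp c₁ q := fun q => by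
    induction q using Localization.induction_on with
    | H x =>
      rw [GrTwist.locMap_mk, GrTwist.locMap_mk, Localization.mk_eq_mk', Localization.mk_eq_mk']
      exact (Localization.localRingHom_mk' _ _ _ c₁ x.1 x.2).symm
  have e₂ : ∀ q, GrTwist.locMap ρ₂ k₂ y (GrTwist.locMap ψ₂ h₂ _ q) = Localization.localRingHom _ _ comp c₂ q := fun q => by
    induction q using Localization.induction_on with
    | H x =>
      rw [GrTwist.locMap_mk, GrTwist.locMap_mk, Localization.mk_eq_mk', Localization.mk_eq_mk']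
      refine Eq.trans ?_ (Localization.localRingHom_mk' _ _ _ c₂ x.1 x.2).symm
      congr 1
      · exact (heq _).symm
      · exact Subtype.ext (heq _).symm
  refine (e₁ _).trans ((key _ _ ?_ m₁ m₂ c₁ c₂).trans (e₂ _).symm)
  exact ProjectiveSpectrum.ext (HomogeneousIdeal.toIdeal_injective (c₁.trans c₂.symm))

end Graded

variable {Y PA PB : Scheme.{u}} {𝒜 ℬ : RelProj.QCGrAlg Y} (φ : 𝒜.toQCAlg ⟶ ℬ.toQCAlg) (hφ : RelProj.IsGradedHom φ)
  (hirr : ∀ (U : Y.Opens) (hU : IsAffineOpen U),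
    (ℬ.deg U hU)₊ ≤ ((𝒜.deg U hU)₊).map (RelProj.gradedHomAt φ hφ U hU))
  {pA : PA ⟶ Y} {pB : PB ⟶ Y}
  {chartA : ∀ (U : Y.Opens) (hU : IsAffineOpen U), (((pA ⁻¹ᵁ U : PA.Opens) : Scheme.{u}) ≅ Proj (𝒜.deg U hU))}
  {chartB : ∀ (U : Y.Opens) (hU : IsAffineOpen U), (((pB ⁻¹ᵁ U : PB.Opens) : Scheme.{u}) ≅ Proj (ℬ.deg U hU))}
  {h : PB ⟶ PA} {n : ℤ} {LA : PA.Modules}
  (lamA : ∀ (U : Y.Opens) (hU : IsAffineOpen U),
    LA ⟶ (Scheme.Modules.pushforward (RelProj.emb pA chartA U hU)).obj (GrTwist.twist (𝒜.deg U hU) n))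
  {LB : PB.Modules}
  (lamB : ∀ (U : Y.Opens) (hU : IsAffineOpen U),
    LB ⟶ (Scheme.Modules.pushforward (RelProj.emb pB chartB U hU)).obj (GrTwist.twist (ℬ.deg U hU) n))

/-- The defining equation on one chart. -/
def Rel (U : Y.Opens) (hU : IsAffineOpen U) {W : PA.Opens} (s : Γ(LA, W)) {W' : PB.Opens} (t : Γ(LB, W')) : Prop :=
  ∀ (y : ProjectiveSpectrum (ℬ.deg U hU)) (hy : (RelProj.emb pB chartB U hU).base y ∈ W')
    (hy' : (RelProj.emb pA chartA U hU).base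
      (ProjectiveSpectrum.comap (RelProj.gradedHomAt φ hφ U hU) (hirr U hU) y) ∈ W),
    GrTwist.val (V := RelProj.emb pB chartB U hU ⁻¹ᵁ W') ((lamB U hU).app W' t) ⟨y, hy⟩ =
      GrTwist.locMap (RelProj.gradedHomAt φ hφ U hU) (hirr U hU) y
        (GrTwist.val (V := RelProj.emb pA chartA U hU ⁻¹ᵁ W) ((lamA U hU).app W s) ⟨_, hy'⟩)

variable {φ hφ hirr lamA lamB}

theorem emb_comm (hh : RelProj.IsRelProjMap φ hφ hirr chartA chartB h) (U : Y.Opens) (hU : IsAffineOpen U) :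
    RelProj.emb pB chartB U hU ≫ h =
      Proj.map (RelProj.gradedHomAt φ hφ U hU) (hirr U hU) ≫ RelProj.emb pA chartA U hU := by
  rw [RelProj.emb, RelProj.emb, Category.assoc, hh U hU, Iso.inv_hom_id_assoc]

theorem emb_mem (hh : RelProj.IsRelProjMap φ hφ hirr chartA chartB h) {U : Y.Opens} (hU : IsAffineOpen U)
    {W : PA.Opens} {y : ProjectiveSpectrum (ℬ.deg U hU)}
    (hy : (RelProj.emb pB chartB U hU).base y ∈ h ⁻¹ᵁ W) :
    (RelProj.emb pA chartA U hU).base (ProjectiveSpectrum.comap (RelProj.gradedHomAt φ hφ U hU) (hirr U hU) y) ∈ W := by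
  have e := congrArg (fun ψ : Proj (ℬ.deg U hU) ⟶ PA => ψ.base y) (emb_comm hh U hU)
  exact (show _ = _ from e) ▸ hy

theorem Rel.res {U : Y.Opens} {hU : IsAffineOpen U} {W : PA.Opens} {s : Γ(LA, W)} {W' W'' : PB.Opens}
    {t : Γ(LB, W')} (i : W'' ≤ W') (ht : Rel φ hφ hirr lamA lamB U hU s t) :
    Rel φ hφ hirr lamA lamB U hU s (LB.presheaf.map (homOfLE i).op t) := by
  intro y hy hy'
  refine Eq.trans ?_ (ht y (i hy) hy')
  rw [map_app_comm]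
  rfl

variable (hB : RelProj.IsRelProj ℬ pB chartB) (hh : RelProj.IsRelProjMap φ hφ hirr chartA chartB h)
  (hLA : RelProj.IsRelTwist 𝒜 pA chartA n LA lamA) (hLB : RelProj.IsRelTwist ℬ pB chartB n LB lamB)

include hh hLB in
theorem rel_unique {U : Y.Opens} {hU : IsAffineOpen U} {W : PA.Opens} {s : Γ(LA, W)} {W' : PB.Opens}
    (hW' : W' ≤ h ⁻¹ᵁ W) (hW'U : W' ≤ pB ⁻¹ᵁ U) {t t' : Γ(LB, W')}
    (ht : Rel φ hφ hirr lamA lamB U hU s t) (ht' : Rel φ hφ hirr lamA lamB U hU s t') : t = t' :=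
  (hLB.bijective U hU W' hW'U).1 (ext_val fun ⟨y, hy⟩ =>
    (ht y hy (emb_mem hh hU (hW' hy))).trans (ht' y hy (emb_mem hh hU (hW' hy))).symm)

include hh hLB in
theorem exists_local {U : Y.Opens} (hU : IsAffineOpen U) {W : PA.Opens} (s : Γ(LA, W)) {W' : PB.Opens}
    (hW' : W' ≤ h ⁻¹ᵁ W) (hW'U : W' ≤ pB ⁻¹ᵁ U) : ∃ t : Γ(LB, W'), Rel φ hφ hirr lamA lamB U hU s t := by
  obtain ⟨t, ht⟩ := (hLB.bijective U hU W' hW'U).2
    (GrTwist.comapApp (RelProj.gradedHomAt φ hφ U hU) (hirr U hU) n (RelProj.emb pA chartA U hU ⁻¹ᵁ W)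
      (RelProj.emb pB chartB U hU ⁻¹ᵁ W') (fun y hy => emb_mem hh hU (hW' hy)) ((lamA U hU).app W s))
  refine ⟨t, fun y hy hy' => ?_⟩
  rw [ht]
  exact GrTwist.comapApp_apply_coe _ _ _ _ _ _ _ ⟨y, hy⟩

include hB hLA hLB in
theorem Rel.down {U : Y.Opens} {hU : IsAffineOpen U} (hh' : RelProj.IsRelProjMap φ hφ hirr chartA chartB h) (r : Γ(Y, U))
    {D : Y.Opens} (hD : IsAffineOpen D) (e : D = Y.basicOpen r) {W : PA.Opens} {s : Γ(LA, W)} {W' : PB.Opens}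
    (hW' : W' ≤ h ⁻¹ᵁ W) {t : Γ(LB, W')}
    (ht : Rel φ hφ hirr lamA lamB U hU s t) : Rel φ hφ hirr lamA lamB D hD s t := by
  subst e
  intro y hy hy'
  have heq : ∀ a, ℬ.res hU (hU.basicOpen r) (Y.basicOpen_le r) (RelProj.gradedHomAt φ hφ U hU a) =
      RelProj.gradedHomAt φ hφ _ (hU.basicOpen r) (𝒜.res hU (hU.basicOpen r) (Y.basicOpen_le r) a) := fun a => by
    have := congrArg (fun ψ => ψ.hom a) (φ.hom.naturality (homOfLE (Y.basicOpen_le r)).op)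
    exact this.symm
  have hy2 : (RelProj.emb pB chartB U hU).base (ProjectiveSpectrum.comap
      (ℬ.res hU (hU.basicOpen r) (Y.basicOpen_le r)) (ℬ.irrelevant_le_map U hU r) y) ∈ W' := by
    have h2 := congrArg (fun ψ : Proj (ℬ.deg (Y.basicOpen r) (hU.basicOpen r)) ⟶ PB => ψ.base y)
      (RelProj.map_res_emb hB U hU r)
    exact (show _ = _ from h2).symm ▸ hy
  have hy2' := emb_mem hh' hU (hW' hy2)
  have hz : (RelProj.emb pA chartA U hU).base (ProjectiveSpectrum.comap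
      (𝒜.res hU (hU.basicOpen r) (Y.basicOpen_le r)) (𝒜.irrelevant_le_map U hU r)
      (ProjectiveSpectrum.comap (RelProj.gradedHomAt φ hφ _ (hU.basicOpen r)) (hirr _ (hU.basicOpen r)) y)) ∈ W := by
    have e : ProjectiveSpectrum.comap (𝒜.res hU (hU.basicOpen r) (Y.basicOpen_le r)) (𝒜.irrelevant_le_map U hU r)
        (ProjectiveSpectrum.comap (RelProj.gradedHomAt φ hφ _ (hU.basicOpen r)) (hirr _ (hU.basicOpen r)) y) =
        ProjectiveSpectrum.comap (RelProj.gradedHomAt φ hφ U hU) (hirr U hU) (ProjectiveSpectrum.comap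
          (ℬ.res hU (hU.basicOpen r) (Y.basicOpen_le r)) (ℬ.irrelevant_le_map U hU r) y) :=
      ProjectiveSpectrum.ext (HomogeneousIdeal.toIdeal_injective (Ideal.ext fun a => by
        show RelProj.gradedHomAt φ hφ _ (hU.basicOpen r) (𝒜.res hU (hU.basicOpen r) (Y.basicOpen_le r) a) ∈
            y.asHomogeneousIdeal.toIdeal ↔
          ℬ.res hU (hU.basicOpen r) (Y.basicOpen_le r) (RelProj.gradedHomAt φ hφ U hU a) ∈ y.asHomogeneousIdeal.toIdeal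
        rw [heq]))
    rw [e]
    exact hy2'
  refine (hLB.compat U hU r W' t y hy hy2).trans ?_
  rw [ht _ hy2 hy2', hLA.compat U hU r W s _ hy' hz]
  exact locMap_square _ _ _ _ _ _ _ _ heq y (RelProj.emb pA chartA U hU ⁻¹ᵁ W)
    (fun x : ↥(RelProj.emb pA chartA U hU ⁻¹ᵁ W) =>
      GrTwist.val (V := RelProj.emb pA chartA U hU ⁻¹ᵁ W) ((lamA U hU).app W s) x) hy2' hz

include hB hh hLA hLB in
theorem rel_all {U : Y.Opens} {hU : IsAffineOpen U} {W : PA.Opens} {s : Γ(LA, W)} {W' : PB.Opens}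
    (hW' : W' ≤ h ⁻¹ᵁ W) (hW'U : W' ≤ pB ⁻¹ᵁ U) {t : Γ(LB, W')}
    (ht : Rel φ hφ hirr lamA lamB U hU s t) (V : Y.Opens) (hV : IsAffineOpen V) :
    Rel φ hφ hirr lamA lamB V hV s t := by
  intro y hy hy'
  have hxV : (RelProj.emb pB chartB V hV).base y ∈ pB ⁻¹ᵁ V := by
    rw [← RelTildeX.opensRange_emb pB chartB V hV]; exact ⟨y, rfl⟩
  obtain ⟨r, r', e, hxr⟩ := exists_basicOpen_le_affine_inter hU hV _ ⟨hW'U hy, hxV⟩
  let W'' : PB.Opens := W' ⊓ pB ⁻¹ᵁ Y.basicOpen r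
  have hW''V : W'' ≤ pB ⁻¹ᵁ V := inf_le_right.trans (pB.preimage_mono (e.le.trans (Y.basicOpen_le r')))
  obtain ⟨t'', ht''⟩ := exists_local (lamA := lamA) hh hLB hV s (W' := W'') (inf_le_left.trans hW') hW''V
  have h1 := Rel.down hB hLA hLB hh r (hU.basicOpen r) rfl (W' := W'') (inf_le_left.trans hW') (ht.res inf_le_left)
  have h2 := Rel.down hB hLA hLB hh r' (hU.basicOpen r) e (W' := W'') (inf_le_left.trans hW') ht''
  have heq := rel_unique hh hLB (inf_le_left.trans hW') inf_le_right h2 h1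
  have h3 := ht'' y ⟨hy, hxr⟩ hy'
  rw [heq, map_app_comm] at h3
  exact h3

include hB hh hLA hLB in
theorem exists_global {W : PA.Opens} (s : Γ(LA, W)) :
    ∃! t : Γ(LB, h ⁻¹ᵁ W), ∀ U hU, Rel φ hφ hirr lamA lamB U hU s t := by
  refine existsUnique_of_exists_of_unique ?_ fun t t' ht ht' => sub_eq_zero.1 (eq_zero_of_locally _ _ fun x hx => ?_)
  · have hloc : ∀ U : Y.affineOpens, ∃ t : Γ(LB, h ⁻¹ᵁ W ⊓ pB ⁻¹ᵁ U.1), ∀ V hV,
        Rel φ hφ hirr lamA lamB V hV s t := fun U => by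
      obtain ⟨t, ht⟩ := exists_local (lamA := lamA) hh hLB U.2 s (W' := h ⁻¹ᵁ W ⊓ pB ⁻¹ᵁ U.1) inf_le_left inf_le_right
      exact ⟨t, rel_all hB hh hLA hLB inf_le_left inf_le_right ht⟩
    choose t ht using hloc
    obtain ⟨T, hT, -⟩ := TopCat.Sheaf.existsUnique_gluing' ⟨LB.presheaf, LB.isSheaf⟩
      (fun U : Y.affineOpens => h ⁻¹ᵁ W ⊓ pB ⁻¹ᵁ U.1) (h ⁻¹ᵁ W) (fun _ => homOfLE inf_le_left)
      (fun x hx => by
        obtain ⟨_, ⟨U, hU, rfl⟩, hxU, -⟩ := Y.isBasis_affineOpens.exists_subset_of_mem_open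
          (Set.mem_univ (pB x)) isOpen_univ
        exact Opens.mem_iSup.2 ⟨⟨U, hU⟩, hx, hxU⟩) t
      (fun U V => rel_unique (U := U.1) (hU := U.2) (s := s) hh hLB (inf_le_left.trans inf_le_left)
        (inf_le_left.trans inf_le_right) ((ht U _ _).res inf_le_left) ((ht V _ _).res inf_le_right))
    refine ⟨T, fun V hV y hy hy' => ?_⟩
    obtain ⟨_, ⟨U, hU, rfl⟩, hxU, -⟩ := Y.isBasis_affineOpens.exists_subset_of_mem_open
      (Set.mem_univ (pB.base ((RelProj.emb pB chartB V hV).base y))) isOpen_univ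
    have h3 := ht ⟨U, hU⟩ V hV y ⟨hy, hxU⟩ hy'
    rw [show t ⟨U, hU⟩ = LB.presheaf.map (homOfLE inf_le_left).op T from (hT ⟨U, hU⟩).symm, map_app_comm] at h3
    exact h3
  · obtain ⟨_, ⟨U, hU, rfl⟩, hxU, -⟩ := Y.isBasis_affineOpens.exists_subset_of_mem_open
      (Set.mem_univ (pB x)) isOpen_univ
    refine ⟨h ⁻¹ᵁ W ⊓ pB ⁻¹ᵁ U, homOfLE inf_le_left, ⟨hx, hxU⟩, ?_⟩
    rw [map_sub, sub_eq_zero]
    exact rel_unique hh hLB inf_le_left inf_le_right ((ht U hU).res inf_le_left) ((ht' U hU).res inf_le_left)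

theorem appLE_congr {X Z : Scheme.{u}} {f g : X ⟶ Z} (e : f = g) (W : Z.Opens) (V : X.Opens)
    (h1 : V ≤ f ⁻¹ᵁ W) (h2 : V ≤ g ⁻¹ᵁ W) : f.appLE W V h1 = g.appLE W V h2 := by
  subst e; rfl

include hh in
theorem app_compat (U : Y.Opens) (hU : IsAffineOpen U) (W : PA.Opens) (c : Γ(PA, W))
    (y : ProjectiveSpectrum (ℬ.deg U hU)) (hy : (RelProj.emb pB chartB U hU).base y ∈ h ⁻¹ᵁ W)
    (hy' : (RelProj.emb pA chartA U hU).base
      (ProjectiveSpectrum.comap (RelProj.gradedHomAt φ hφ U hU) (hirr U hU) y) ∈ W) :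
    ((show GrTwist.O (𝒜 := ℬ.deg U hU) (op (RelProj.emb pB chartB U hU ⁻¹ᵁ (h ⁻¹ᵁ W))) from
        (RelProj.emb pB chartB U hU).app (h ⁻¹ᵁ W) (h.app W c)).1 ⟨y, hy⟩).val =
      GrTwist.locMap (RelProj.gradedHomAt φ hφ U hU) (hirr U hU) y
        ((show GrTwist.O (𝒜 := 𝒜.deg U hU) (op (RelProj.emb pA chartA U hU ⁻¹ᵁ W)) from
          (RelProj.emb pA chartA U hU).app W c).1 ⟨_, hy'⟩).val := by
  let V : (Proj (ℬ.deg U hU)).Opens := RelProj.emb pB chartB U hU ⁻¹ᵁ (h ⁻¹ᵁ W)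
  have hV : V ≤ Proj.map (RelProj.gradedHomAt φ hφ U hU) (hirr U hU) ⁻¹ᵁ (RelProj.emb pA chartA U hU ⁻¹ᵁ W) :=
    fun z hz => emb_mem hh hU hz
  have e := congrArg (fun χ => (ConcreteCategory.hom χ) c)
    (appLE_congr (emb_comm hh U hU) W V le_rfl (hV.trans le_rfl))
  rw [Scheme.Hom.comp_appLE, Scheme.Hom.comp_appLE, Scheme.Hom.appLE_eq_app] at e
  refine Eq.trans (congrArg (fun z : GrTwist.O (𝒜 := ℬ.deg U hU) (op V) => (z.1 ⟨y, hy⟩).val) e) ?_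
  exact HomogeneousLocalization.val_localRingHom _

theorem val_map {X P : Scheme.{u}} {A σ : Type u} [CommRing A] [SetLike σ A] [AddSubgroupClass σ A] {𝒢 : ℕ → σ}
    [GradedRing 𝒢] {k : ℤ} (g : Proj 𝒢 ⟶ P) {L : P.Modules}
    (l : L ⟶ (Scheme.Modules.pushforward g).obj (GrTwist.twist 𝒢 k)) {W V : P.Opens} (i : W ≤ V) (s : Γ(L, V))
    (y : ProjectiveSpectrum 𝒢) (hy : g.base y ∈ W) (hy2 : g.base y ∈ V) :
    GrTwist.val (V := g ⁻¹ᵁ W) (l.app W (L.presheaf.map (homOfLE i).op s)) ⟨y, hy⟩ =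
      GrTwist.val (V := g ⁻¹ᵁ V) (l.app V s) ⟨y, hy2⟩ := by
  rw [map_app_comm]
  rfl

theorem val_add {P : Scheme.{u}} {A σ : Type u} [CommRing A] [SetLike σ A] [AddSubgroupClass σ A] {𝒢 : ℕ → σ}
    [GradedRing 𝒢] {k : ℤ} (g : Proj 𝒢 ⟶ P) {L : P.Modules}
    (l : L ⟶ (Scheme.Modules.pushforward g).obj (GrTwist.twist 𝒢 k)) {W : P.Opens} (s s' : Γ(L, W))
    (y : ProjectiveSpectrum 𝒢) (hy : g.base y ∈ W) :
    GrTwist.val (V := g ⁻¹ᵁ W) (l.app W (s + s')) ⟨y, hy⟩ =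
      GrTwist.val (V := g ⁻¹ᵁ W) (l.app W s) ⟨y, hy⟩ + GrTwist.val (V := g ⁻¹ᵁ W) (l.app W s') ⟨y, hy⟩ := by
  rw [map_add]
  rfl

theorem val_smul {P : Scheme.{u}} {A σ : Type u} [CommRing A] [SetLike σ A] [AddSubgroupClass σ A] {𝒢 : ℕ → σ}
    [GradedRing 𝒢] {k : ℤ} (g : Proj 𝒢 ⟶ P) {L : P.Modules}
    (l : L ⟶ (Scheme.Modules.pushforward g).obj (GrTwist.twist 𝒢 k)) {W : P.Opens} (c : Γ(P, W)) (s : Γ(L, W))
    (y : ProjectiveSpectrum 𝒢) (hy : g.base y ∈ W) :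
    GrTwist.val (V := g ⁻¹ᵁ W) (l.app W (c • s)) ⟨y, hy⟩ =
      ((show GrTwist.O (𝒜 := 𝒢) (op (g ⁻¹ᵁ W)) from g.app W c).1 ⟨y, hy⟩).val *
        GrTwist.val (V := g ⁻¹ᵁ W) (l.app W s) ⟨y, hy⟩ := by
  rw [Scheme.Modules.Hom.app_smul]
  exact GrTwist.coe_smul_val k y _ _

include hh in
theorem Rel.smul {U : Y.Opens} {hU : IsAffineOpen U} {W : PA.Opens} {s : Γ(LA, W)} (c : Γ(PA, W))
    {t : Γ(LB, h ⁻¹ᵁ W)} (ht : Rel φ hφ hirr lamA lamB U hU s t) :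
    Rel φ hφ hirr lamA lamB U hU (c • s) (W' := h ⁻¹ᵁ W) (h.app W c • t) := by
  intro y hy hy'
  rw [val_smul _ (lamA U hU) c s _ hy', val_smul _ (lamB U hU) _ _ _ hy, ht y hy hy']
  refine Eq.trans ?_ (map_mul _ _ _).symm
  exact congrArg (· * _) (app_compat hh U hU W c y hy hy')

include hB hh hLA hLB in
theorem existsUnique_theta :
    ∃! θ : LA ⟶ (Scheme.Modules.pushforward h).obj LB,
      ∀ (U : Y.Opens) (hU : IsAffineOpen U) (W : PA.Opens) (s : Γ(LA, W)),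
        Rel φ hφ hirr lamA lamB U hU s (W' := h ⁻¹ᵁ W) (θ.app W s) := by
  have hex := fun (W : PA.Opens) (s : Γ(LA, W)) => exists_global hB hh hLA hLB s
  choose t ht htu using hex
  let θ : LA ⟶ (Scheme.Modules.pushforward h).obj LB :=
    ⟨PresheafOfModules.homMk
      { app := fun W => AddCommGrpCat.ofHom (AddMonoidHom.mk' (t W.unop) fun s s' =>
          (htu W.unop (s + s') _ fun U hU y hy hy' => by
            rw [val_add _ (lamA U hU) s s' _ hy', val_add _ (lamB U hU) _ _ _ hy,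
              ht W.unop s U hU y hy hy', ht W.unop s' U hU y hy hy']
            exact (map_add _ _ _).symm).symm)
        naturality := fun V W i => by
          ext s
          refine (htu W.unop (LA.presheaf.map i s) _ fun U hU y hy hy' => ?_).symm
          exact (val_map (X := PA) _ (lamB U hU) (h.preimage_mono i.unop.le) _ y hy (h.preimage_mono i.unop.le hy)).trans
            ((ht V.unop s U hU y (h.preimage_mono i.unop.le hy) (i.unop.le hy')).trans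
              (congrArg (GrTwist.locMap _ _ y) (val_map (X := PA) _ (lamA U hU) i.unop.le s _ hy' (i.unop.le hy')).symm)) }
      fun W c s => ((htu W.unop (c • s) (show Γ(LB, h ⁻¹ᵁ W.unop) from h.app W.unop c • t W.unop s)
        fun U hU => Rel.smul hh c (ht W.unop s U hU))).symm⟩
  refine ⟨θ, fun U hU W s => ht W s U hU, fun θ' hθ' => Scheme.Modules.hom_ext _ _ fun W => ?_⟩
  ext s
  exact htu W s (θ'.app W s) fun U hU => hθ' U hU W s

end Groth.Agent.RelTwistMap16
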